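import Groth.Agent.PerfBaseLib.Twist
import Groth.Agent.KiehlLib.SuppPC
import Groth.Agent.KFlatLib.PCohPull
import Groth.Agent.KFlatLib.QCohLpull
import Groth.Agent.TensorCohLib.Basic
import Groth.Agent.S1039
import Groth.Agent.S1001

/-!
# Fourier-Mukai transforms with a coherent kernel flat over the source
-/

set_option autoImplicit false
set_option backward.isDefEq.respectTransparency false
set_option backward.isDefEq.respectTransparency.types false
set_option maxHeartbeats 1000000
set_option synthInstance.maxHeartbeats 200000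
set_option linter.style.haveILetI false

universe u

open CategoryTheory CategoryTheory.Limits AlgebraicGeometry MonoidalCategory HomologicalComplex
open Groth.Agent
open scoped TensorProduct

attribute [local instance] HasDerivedCategory.standard

namespace FMFlatLib

section Alg

variable {A B : Type u} [CommRing A] [CommRing B] (φ : A →+* B) (N : ModuleCat.{u} B)

/-- Extension of scalars followed by twisting by a module flat over the source ring. -/
noncomputable abbrev bcTwist : ModuleCat.{u} A ⥤ ModuleCat.{u} B :=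
  ModuleCat.extendScalars.{u, u, u} φ ⋙ tensorRight N

theorem preservesMono_bcTwist [Module.Flat A ((ModuleCat.restrictScalars φ).obj N)] :
    (bcTwist φ N).PreservesMonomorphisms where
  preserves {P Q} f _ := by
    letI := φ.toAlgebra
    letI : Module A N := Module.compHom N φ
    haveI : IsScalarTower A B N := IsScalarTower.of_algebraMap_smul fun r x => rfl
    haveI : Module.Flat A N := ‹Module.Flat A ((ModuleCat.restrictScalars φ).obj N)›
    have hf : Function.Injective f.hom := (ModuleCat.mono_iff_injective f).mp inferInstance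
    let e := fun (T : ModuleCat.{u} A) => (TensorProduct.comm B (B ⊗[A] T) N).trans
      (TensorProduct.AlgebraTensorModule.cancelBaseChange A B B N T)
    have hinj : Function.Injective (LinearMap.lTensor (R := A) N f.hom) :=
      Module.Flat.lTensor_preserves_injective_linearMap (M := N) f.hom hf
    refine (ModuleCat.mono_iff_injective _).mpr fun x y hxy => ?_
    have h : ∀ z : (B ⊗[A] P) ⊗[B] N,
        e Q (((bcTwist φ N).map f).hom z) = LinearMap.lTensor (R := A) N f.hom (e P z) := by
      intro z
      induction z using TensorProduct.induction_on with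
      | zero => simp only [map_zero]
      | add z z' hz hz' =>
        have h0 : ((bcTwist φ N).map f).hom (z + z') =
            ((bcTwist φ N).map f).hom z + ((bcTwist φ N).map f).hom z' := map_add _ z z'
        rw [h0]; simp only [map_add]; exact (congrArg₂ (· + ·) hz hz')
      | tmul z n =>
        induction z using TensorProduct.induction_on with
        | zero => simp only [TensorProduct.zero_tmul, map_zero]
        | add z z' hz hz' =>
          rw [TensorProduct.add_tmul]
          have h0 : ((bcTwist φ N).map f).hom (z ⊗ₜ[B] n + z' ⊗ₜ[B] n) =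
              ((bcTwist φ N).map f).hom (z ⊗ₜ[B] n) + ((bcTwist φ N).map f).hom (z' ⊗ₜ[B] n) := map_add _ _ _
          rw [h0]; simp only [map_add]; exact (congrArg₂ (· + ·) hz hz')
        | tmul b p =>
          change e Q (((b ⊗ₜ[A] f.hom p) : B ⊗[A] Q) ⊗ₜ[B] n) = _
          simp [e]
    have h' := (congrArg (e Q) hxy)
    erw [h, h] at h'
    exact (e P).injective (hinj h')

/-- Twisting by a module flat over the source ring preserves homology. -/
theorem isZero_homology_bcTwist [Module.Flat A ((ModuleCat.restrictScalars φ).obj N)]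
    (C : CochainComplex (ModuleCat.{u} A) ℤ) (i : ℤ) (h : IsZero (C.homology i)) :
    IsZero ((((bcTwist φ N).mapHomologicalComplex (ComplexShape.up ℤ)).obj C).homology i) := by
  haveI := preservesMono_bcTwist φ N
  haveI : PreservesColimitsOfSize.{0, 0} (ModuleCat.extendScalars.{u, u, u} φ) :=
    (ModuleCat.extendRestrictScalarsAdj.{u} φ).leftAdjoint_preservesColimits
  haveI : (bcTwist φ N).Additive := inferInstance
  haveI : (bcTwist φ N).PreservesHomology :=
    Functor.preservesHomology_of_preservesMonos_and_cokernels _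
  exact ((bcTwist φ N).map_isZero h).of_iso ((C.sc i).mapHomologyIso (bcTwist φ N))

end Alg

variable {X S Y : Scheme.{u}}

/-- Pullbacks twisted by modules flat over the source have no lower cohomology. -/
theorem isZero_homology_tensorModCx_pullCx (p : Y ⟶ X) (G : Y.Modules)
    (hG : FlatMod.IsFlatOver p G) (P : CochainComplex X.Modules ℤ) (i : ℤ) (h : IsZero (P.homology i)) :
    IsZero (((KFlatLib.tensorModCx G).obj ((KFlatLib.pullCx p).obj P)).homology i) := by
  rw [KFlatLib.isZero_homology_iff]
  intro x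
  haveI := PerfBaseLib.flat_stalk_of_flatOver hG x
  have h₀ := isZero_homology_bcTwist (p.stalkMap x).hom ((DerSch.stalkFunctor Y x).obj G)
    ((KFlatLib.stalkCx X (p x)).obj P) i ((KFlatLib.isZero_homology_iff P i).1 h (p x))
  exact h₀.of_iso ((homologyFunctor _ _ i).mapIso
    ((KFlatLib.stalkTensorModCxIso x G ((KFlatLib.pullCx p).obj P)).symm ≪≫
      ((tensorRight _).mapHomologicalComplex (ComplexShape.up ℤ)).mapIso
        (KFlatLib.stalkPullCxIso p x P)))

/-- **Coherence and boundedness of Fourier-Mukai transforms with a coherent kernel flat over the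
source and with proper support over the target.** -/
theorem isCohD_rpush_lTensorMod_lpull [IsNoetherian S] [IsNoetherian X] [IsNoetherian Y]
    (p : Y ⟶ X) (q : Y ⟶ S) [LocallyOfFiniteType q] (G : Y.Modules) (hG : Coh.IsCoh G)
    (hflat : FlatMod.IsFlatOver p G) (hsupp : ClSub.IsProperOver q (CohB1.support G))
    [DCoh.HasLpull p] [DCoh.HasLTensorMod G] [DCoh.HasRpush q]
    (M : DCoh.D X) (hM : DCoh.IsCohD M) (m n : ℤ) [M.IsGE m] [M.IsLE n] :
    DCoh.IsCohD ((DCoh.Rpush q).obj ((DCoh.LTensorMod G).obj ((DCoh.Lpull p).obj M))) ∧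
      ∃ m' n' : ℤ, ((DCoh.Rpush q).obj ((DCoh.LTensorMod G).obj ((DCoh.Lpull p).obj M))).IsGE m' ∧
        ((DCoh.Rpush q).obj ((DCoh.LTensorMod G).obj ((DCoh.Lpull p).obj M))).IsLE n' := by
  have hMq : DCoh.IsQCohD M := fun i => (hM i).1
  have hpc : ∀ k, DCoh.IsPseudoCoherentD k M := fun k =>
    (Groth.Agent.S1039.result X M hMq k).2 ⟨fun i _ => hM i, n, inferInstance⟩
  obtain ⟨P, hP, ⟨eP⟩⟩ := KFlatLib.exists_good_rep M
  let Q := (KFlatLib.pullCx p).obj P
  have hQ : DCoh.IsKFlat Q := KFlatLib.isKFlat_pull p hP.1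
  let eQ : (DCoh.Lpull p).obj M ≅ DCoh.toD Y Q :=
    (DCoh.Lpull p).mapIso eP.symm ≪≫ KFlatLib.lpullObjIso p P hP.1
  have hQq : DCoh.IsQCohD ((DCoh.Lpull p).obj M) := KFlatLib.isQCohD_lpull p M hMq
  have hQpc := fun k => (Groth.Agent.S1039.result Y _ hQq k).1
    (KFlatLib.isPseudoCoherent_lpull p k M (hpc k))
  obtain ⟨b, hb⟩ := (hQpc 0).2
  haveI : (DCoh.toD Y Q).IsLE b := DerivedCategory.TStructure.t.isLE_of_iso eQ b
  have hQc : DCoh.IsCohD (DCoh.toD Y Q) := fun i => QCohLib.isCoh_of_iso
    ((DerivedCategory.homologyFunctor Y.Modules i).mapIso eQ) ((hQpc i).1 i le_rfl)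
  haveI := KFlatLib.hasLTensorCx Q
  obtain ⟨e₁⟩ := KiehlLib.nonempty_lTensorCx_inD Q hQ G
  let T := (KFlatLib.tensorModCx G).obj Q
  let eT : (DCoh.LTensorMod G).obj ((DCoh.Lpull p).obj M) ≅ DCoh.toD Y T :=
    (DCoh.LTensorMod G).mapIso eQ ≪≫ KFlatLib.lTensorModObjIso G Q hQ
  let G₀ : DCoh.D Y := DCoh.inD Y G
  haveI : G₀.IsLE 0 := inferInstanceAs (DerivedCategory.IsLE ((DerivedCategory.singleFunctor _ 0).obj G) 0)
  have hG₀ : DCoh.IsCohD G₀ := fun i => by
    by_cases hi : i = 0
    · subst hi
      exact QCohLib.isCoh_of_iso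
        ((DerivedCategory.singleFunctorCompHomologyFunctorIso Y.Modules 0).app G).symm hG
    · refine DevissLib.isCoh_of_isZero ?_
      rcases lt_or_gt_of_ne hi with h | h
      · haveI : G₀.IsGE 0 := inferInstanceAs (DerivedCategory.IsGE ((DerivedCategory.singleFunctor _ 0).obj G) 0)
        exact DerivedCategory.isZero_of_isGE G₀ 0 i h
      · exact DerivedCategory.isZero_of_isLE G₀ 0 i h
  obtain ⟨hc, hle⟩ := TensorCohLib.isCohD_lTensorCx Q G₀ 0 b hG₀ hQc
  have hTc : DCoh.IsCohD (DCoh.toD Y T) := fun i => QCohLib.isCoh_of_iso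
    ((DerivedCategory.homologyFunctor Y.Modules i).mapIso (e₁ ≪≫ KFlatLib.lTensorModObjIso G Q hQ)) (hc i)
  haveI : (DCoh.toD Y T).IsLE (0 + b) := (DerivedCategory.isLE_iff _ _).2 fun i hi =>
    (hle i hi).of_iso ((DerivedCategory.homologyFunctor Y.Modules i).mapIso
      (e₁ ≪≫ KFlatLib.lTensorModObjIso G Q hQ)).symm
  haveI : (DCoh.toD Y T).IsGE m := (DerivedCategory.isGE_iff _ _).2 fun i hi =>
    (KFlatLib.isZero_HD_iff (Iso.refl _) i).2 (isZero_homology_tensorModCx_pullCx p G hflat P i
      ((KFlatLib.isZero_HD_iff eP i).1 (DerivedCategory.isZero_of_isGE M m i hi)))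
  obtain ⟨h₁, h₂, n', h₃⟩ := Groth.Agent.S1001.result q (DCoh.toD Y T) m (0 + b) hTc fun i =>
    PerfBaseLib.isProperOver_of_subset q (QCohLib.isClosed_support _ (hTc i).2)
      ((DevissLib.support_iso (KFlatLib.hdToD T i)).le.trans
        (PerfBaseLib.support_homology_tensorMod G Q i)) hsupp
  let eR := (DCoh.Rpush q).mapIso eT
  exact ⟨fun i => QCohLib.isCoh_of_iso ((DerivedCategory.homologyFunctor S.Modules i).mapIso eR.symm) (h₁ i),
    m, n', DerivedCategory.TStructure.t.isGE_of_iso eR.symm m,
    DerivedCategory.TStructure.t.isLE_of_iso eR.symm n'⟩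

end FMFlatLib
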