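import Groth.Agent.KiehlLib.Cx
import Groth.Agent.KiehlLib.Supp
import Groth.Agent.PerfLib.Derived

/-!
# Perfect direct images twisted by bounded complexes of flat modules with proper support
-/

set_option autoImplicit false
set_option backward.isDefEq.respectTransparency false
set_option backward.isDefEq.respectTransparency.types false
set_option maxHeartbeats 1000000
set_option synthInstance.maxHeartbeats 200000
set_option linter.style.haveILetI false

universe u

open CategoryTheory CategoryTheory.Limits CategoryTheory.Pretriangulated AlgebraicGeometry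
open Groth.Agent

attribute [local instance] HasDerivedCategory.standard

namespace FMFlatLib

variable {X S : Scheme.{u}}

/-- Objects whose twist by `P` has perfect direct image. -/
def Good (f : X ⟶ S) [DCoh.HasRpush f] (P : CochainComplex X.Modules ℤ) [DCoh.HasLTensorCx P]
    (K : DCoh.D X) : Prop :=
  DCoh.IsPerfect ((DCoh.Rpush f).obj ((DCoh.LTensorCx P).obj K))

section Good

variable {f : X ⟶ S} [DCoh.HasRpush f] {P : CochainComplex X.Modules ℤ} [DCoh.HasLTensorCx P]

theorem Good.iso {K L : DCoh.D X} (e : K ≅ L) (h : Good f P K) : Good f P L :=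
  PerfLib.isPerfect_of_iso ((DCoh.Rpush f).mapIso ((DCoh.LTensorCx P).mapIso e)) h

theorem Good.of_isZero {K : DCoh.D X} (h : IsZero K) : Good f P K :=
  PerfLib.isPerfect_of_isZero
    (Groth.Agent.DCohRestrLib.isZero_Rpush f ((KFlatLib.tensorTriFun P).zero h))

theorem Good.triangle (T : Triangle (DCoh.D X)) (hT : T ∈ distinguishedTriangles) :
    (Good f P T.obj₁ → Good f P T.obj₂ → Good f P T.obj₃) ∧
    (Good f P T.obj₁ → Good f P T.obj₃ → Good f P T.obj₂) ∧
    (Good f P T.obj₂ → Good f P T.obj₃ → Good f P T.obj₁) := by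
  obtain ⟨_, _⟩ := QRlimLib.exists_isTriangulated_rpush f
  obtain ⟨T', hT', ⟨e₁⟩, ⟨e₂⟩, ⟨e₃⟩⟩ := (KFlatLib.tensorTriFun P).tri T hT
  let R := DCoh.Rpush f
  have hR := R.map_distinguished _ hT'
  refine ⟨fun h₁ h₂ => ?_, fun h₁ h₃ => ?_, fun h₂ h₃ => ?_⟩
  · exact PerfLib.isPerfect_of_iso (R.mapIso e₃) (PerfLib.isPerfect_obj₃ _ hR
      (PerfLib.isPerfect_of_iso (R.mapIso e₁).symm h₁) (PerfLib.isPerfect_of_iso (R.mapIso e₂).symm h₂))
  · exact PerfLib.isPerfect_of_iso (R.mapIso e₂) (PerfLib.isPerfect_obj₂ _ hR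
      (PerfLib.isPerfect_of_iso (R.mapIso e₁).symm h₁) (PerfLib.isPerfect_of_iso (R.mapIso e₃).symm h₃))
  · exact PerfLib.isPerfect_of_iso (R.mapIso e₁) (PerfLib.isPerfect_obj₁ _ hR
      (PerfLib.isPerfect_of_iso (R.mapIso e₂).symm h₂) (PerfLib.isPerfect_of_iso (R.mapIso e₃).symm h₃))

theorem Good.shift_one {K : DCoh.D X} : Good f P (K⟦(1 : ℤ)⟧) ↔ Good f P K := by
  have hT := rot_of_distTriang _ (contractible_distinguished K)
  exact ⟨fun h => (Good.triangle _ hT).2.2 (Good.of_isZero (isZero_zero _)) h,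
    fun h => (Good.triangle _ hT).1 h (Good.of_isZero (isZero_zero _))⟩

theorem Good.single {M : X.Modules} (h : Good f P (DCoh.inD X M)) :
    ∀ n : ℤ, Good f P ((DerivedCategory.singleFunctor X.Modules n).obj M) := by
  intro n
  induction n using Int.induction_on with
  | zero => exact h
  | succ k ih =>
    exact Good.shift_one.1 (Good.iso
      (((DerivedCategory.singleFunctors X.Modules).shiftIso (1 : ℤ) (k : ℤ) ((k : ℤ) + 1) (by omega)).app M).symm ih)
  | pred k ih =>
    exact Good.iso (((DerivedCategory.singleFunctors X.Modules).shiftIso (1 : ℤ) (-(k : ℤ) - 1) (-(k : ℤ))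
      (by omega)).app M) (Good.shift_one.2 ih)

end Good

/-- **Perfectness of direct images twisted by bounded complexes of flat modules with proper
support.** -/
theorem isPerfect_rpush_lTensorCx (f : X ⟶ S) [LocallyOfFinitePresentation f] [QuasiCompact f]
    [QuasiSeparated f] [DCoh.HasRpush f] (E : DCoh.D X) (hE : DCoh.IsPerfect E)
    (G : CochainComplex X.Modules ℤ) (a b : ℤ) (hGb : ∀ i : ℤ, i < a ∨ b < i → IsZero (G.X i))
    (hGfp : ∀ i : ℤ, CohB1.IsFP (G.X i)) (hGflat : ∀ i : ℤ, FlatMod.IsFlatOver f (G.X i))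
    (hGsupp : ∀ i : ℤ, ClSub.IsProperOver f (CohB1.support (G.X i)))
    [DCoh.HasLTensorCx G] : DCoh.IsPerfect ((DCoh.Rpush f).obj ((DCoh.LTensorCx G).obj E)) := by
  obtain ⟨P, hP, ⟨eP⟩⟩ := KFlatLib.exists_good_rep E
  have hPp := PerfLib.isPerfect_of_iso eP.symm hE
  haveI := KFlatLib.hasLTensorCx P
  haveI := TensorAssocLib.isIso_cnt P hP.1 G
  haveI := TensorAssocLib.isIso_cnt_of_kFlat G P hP.1
  let eS : (DCoh.LTensorCx P).obj (DerivedCategory.Q.obj G) ≅ DCoh.toD X (KFlatLib.tCx P G) :=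
    asIso ((TensorAssocLib.cnt P).app G) ≪≫ DerivedCategory.Q.mapIso (KFlatLib.tCxFlip P G)
  refine PerfLib.isPerfect_of_iso ((DCoh.Rpush f).mapIso (eS ≪≫ (asIso ((TensorAssocLib.cnt G).app P)).symm ≪≫
    (DCoh.LTensorCx G).mapIso eP)) ?_
  refine PerfCompLib.prop_Q_of_bounded (Good f P) Good.iso
    (fun T hT => (Good.triangle T hT).2.1) Good.of_isZero (b - a).toNat G a b (by omega) hGb
    fun i _ _ => Good.iso ((DerivedCategory.singleFunctorIsoCompQ X.Modules i).app _) (Good.single ?_ i)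
  haveI := KFlatLib.hasLTensorMod (G.X i)
  haveI : SheafOfModules.IsFinitePresentation (R := X.ringCatSheaf) (G.X i) := hGfp i
  haveI : Coh.IsQCoh (G.X i) := inferInstanceAs (SheafOfModules.IsQuasicoherent (R := X.ringCatSheaf) (G.X i))
  obtain ⟨e⟩ := KiehlLib.nonempty_lTensorCx_inD P hP.1 (G.X i)
  exact PerfLib.isPerfect_of_iso ((DCoh.Rpush f).mapIso e.symm)
    (KiehlLib.isPerfect_rpush_lTensor_supp f _ hPp (G.X i) (hGfp i) (hGflat i) (hGsupp i))

end FMFlatLib
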