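import Groth.Agent.FMFlatLib.Coh
import Groth.Agent.FMFlatLib.Main
import Groth.Agent.DerLib.WeakSerreTri

/-!
# Fourier-Mukai transforms of perfect objects with bounded coherent kernels
-/

set_option autoImplicit false
set_option backward.isDefEq.respectTransparency false
set_option backward.isDefEq.respectTransparency.types false
set_option maxHeartbeats 1000000
set_option synthInstance.maxHeartbeats 200000
set_option linter.style.haveILetI false

universe w v u

open CategoryTheory CategoryTheory.Limits CategoryTheory.Pretriangulated AlgebraicGeometry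
open Groth.Agent

attribute [local instance] HasDerivedCategory.standard

namespace FMFlatLib

open DerivedCategory DerivedCategory.TStructure Groth.Agent.DerLib.Devissage in
/-- Dévissage of bounded objects along their cohomology. -/
theorem prop_of_bounded_homology {C : Type u} [Category.{v} C] [Abelian C] [HasDerivedCategory.{w} C]
    (P : DerivedCategory C → Prop) (hiso : ∀ {K L : DerivedCategory C}, (K ≅ L) → P K → P L)
    (hext : ∀ T ∈ distTriang (DerivedCategory C), P T.obj₁ → P T.obj₃ → P T.obj₂) :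
    ∀ (k : ℕ) (a : ℤ) (K : DerivedCategory C), K.IsGE a → K.IsLE (a + k) →
      (∀ n : ℤ, P ((singleFunctor C n).obj ((DerivedCategory.homologyFunctor C n).obj K))) → P K := by
  intro k
  induction k with
  | zero =>
    intro a K _ hle hP
    haveI : K.IsLE a := t.isLE_of_le K (a + ((0 : ℕ) : ℤ)) a (by omega)
    obtain ⟨e⟩ := nonempty_iso_single K a
    exact hiso e.symm (hP a)
  | succ k ih =>
    intro a K hge hle hP
    haveI : K.IsLE (a + k + 1) := t.isLE_of_le K (a + ((k + 1 : ℕ) : ℤ)) _ (by push_cast; omega)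
    refine hext _ (t.triangleLEGT_distinguished (a + k) K) ?_ ?_
    · refine ih a ((t.truncLE (a + k)).obj K) ?_ inferInstance fun i => ?_
      · rw [isGE_iff]
        intro i hi
        haveI := isIso_homology_truncLEι K (a + k) i (by omega)
        exact (isZero_of_isGE K a i hi).of_iso
          (asIso ((DerivedCategory.homologyFunctor C i).map ((t.truncLEι (a + k)).app K)))
      · rcases le_or_gt i (a + k) with hib | hib
        · haveI := isIso_homology_truncLEι K (a + k) i hib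
          exact hiso ((singleFunctor C i).mapIso (asIso ((DerivedCategory.homologyFunctor C i).map
            ((t.truncLEι (a + k)).app K))).symm) (hP i)
        · have h0 : IsZero ((DerivedCategory.homologyFunctor C (a + k + 2)).obj K) :=
            isZero_of_isLE K (a + k + 1) _ (by omega)
          exact hiso (((singleFunctor C _).map_isZero h0).iso ((singleFunctor C i).map_isZero
            (isZero_of_isLE _ (a + k) i hib))) (hP (a + k + 2))
    · change P ((t.truncGT (a + k)).obj K)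
      haveI : ((t.truncGT (a + k)).obj K).IsLE (a + k + 1) := by
        rw [isLE_iff]
        intro i hi
        haveI := isIso_homology_truncGTπ K (a + k) i (by omega)
        exact (isZero_of_isLE K (a + k + 1) i hi).of_iso
          (asIso ((DerivedCategory.homologyFunctor C i).map ((t.truncGTπ (a + k)).app K))).symm
      obtain ⟨e⟩ := nonempty_iso_single ((t.truncGT (a + k)).obj K) (a + k + 1)
      haveI := isIso_homology_truncGTπ K (a + k) (a + k + 1) (by omega)
      exact hiso ((singleFunctor C _).mapIso (asIso ((DerivedCategory.homologyFunctor C (a + k + 1)).map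
        ((t.truncGTπ (a + k)).app K))) ≪≫ e.symm) (hP (a + k + 1))

variable {Y S : Scheme.{u}}

/-- Bounded objects with coherent cohomology. -/
def DbCoh (X : Scheme.{u}) (K : DCoh.D X) : Prop :=
  DCoh.IsCohD K ∧ ∃ a b : ℤ, K.IsGE a ∧ K.IsLE b

theorem DbCoh.iso {X : Scheme.{u}} {K L : DCoh.D X} (e : K ≅ L) (h : DbCoh X K) : DbCoh X L := by
  obtain ⟨h, a, b, ha, hb⟩ := h
  exact ⟨fun i => QCohLib.isCoh_of_iso ((DerivedCategory.homologyFunctor X.Modules i).mapIso e) (h i),
    a, b, DerivedCategory.TStructure.t.isGE_of_iso e a, DerivedCategory.TStructure.t.isLE_of_iso e b⟩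

theorem DbCoh.obj₂ {X : Scheme.{u}} [IsLocallyNoetherian X] (T : Triangle (DCoh.D X))
    (hT : T ∈ distinguishedTriangles) (h₁ : DbCoh X T.obj₁) (h₃ : DbCoh X T.obj₃) : DbCoh X T.obj₂ := by
  haveI : WSerre.IsWeakSerre (fun M : X.Modules => Coh.IsCoh M) := Groth.Agent.KHeartLib.isWeakSerre_isCoh
  obtain ⟨c₁, a₁, b₁, _, _⟩ := h₁
  obtain ⟨c₃, a₃, b₃, _, _⟩ := h₃
  haveI := DerivedCategory.TStructure.t.isGE_of_ge T.obj₁ (min a₁ a₃) a₁ (min_le_left _ _)
  haveI := DerivedCategory.TStructure.t.isGE_of_ge T.obj₃ (min a₁ a₃) a₃ (min_le_right _ _)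
  haveI := DerivedCategory.TStructure.t.isLE_of_le T.obj₁ b₁ (max b₁ b₃) (le_max_left _ _)
  haveI := DerivedCategory.TStructure.t.isLE_of_le T.obj₃ b₃ (max b₁ b₃) (le_max_right _ _)
  exact ⟨Groth.Agent.DerLib.WeakSerreTri.cohIn_obj₂ (fun M : X.Modules => Coh.IsCoh M) T hT c₁ c₃,
    min a₁ a₃, max b₁ b₃, DerivedCategory.TStructure.t.isGE₂ T hT _ inferInstance inferInstance,
    DerivedCategory.TStructure.t.isLE₂ T hT _ inferInstance inferInstance⟩

theorem DbCoh.shift {X : Scheme.{u}} [IsLocallyNoetherian X] {K : DCoh.D X} (h : DbCoh X K) (n : ℤ) :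
    DbCoh X (K⟦n⟧) := by
  haveI : WSerre.IsWeakSerre (fun M : X.Modules => Coh.IsCoh M) := Groth.Agent.KHeartLib.isWeakSerre_isCoh
  obtain ⟨c, a, b, _, _⟩ := h
  exact ⟨Groth.Agent.DerLib.WeakSerreTri.cohIn_shift (fun M : X.Modules => Coh.IsCoh M) K n c, a - n, b - n,
    DerivedCategory.TStructure.t.isGE_shift K a n (a - n) (by omega),
    DerivedCategory.TStructure.t.isLE_shift K b n (b - n) (by omega)⟩

theorem DbCoh.of_isZero {X : Scheme.{u}} {K : DCoh.D X} (h : IsZero K) : DbCoh X K :=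
  ⟨fun i => DevissLib.isCoh_of_isZero (Functor.map_isZero _ h), 0, 0,
    DerivedCategory.TStructure.t.isGE_of_isZero h 0, DerivedCategory.TStructure.t.isLE_of_isZero h 0⟩

theorem DbCoh.obj₃ {X : Scheme.{u}} [IsLocallyNoetherian X] (T : Triangle (DCoh.D X))
    (hT : T ∈ distinguishedTriangles) (h₁ : DbCoh X T.obj₁) (h₂ : DbCoh X T.obj₂) : DbCoh X T.obj₃ :=
  DbCoh.obj₂ _ (rot_of_distTriang _ hT) h₂ (h₁.shift 1)

theorem DbCoh.obj₁ {X : Scheme.{u}} [IsLocallyNoetherian X] (T : Triangle (DCoh.D X))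
    (hT : T ∈ distinguishedTriangles) (h₂ : DbCoh X T.obj₂) (h₃ : DbCoh X T.obj₃) : DbCoh X T.obj₁ :=
  DbCoh.obj₂ _ (inv_rot_of_distTriang _ hT) (h₃.shift (-1)) h₂

/-- Objects whose twist by `P` has bounded coherent direct image. -/
def GoodDb (q : Y ⟶ S) [DCoh.HasRpush q] (P : CochainComplex Y.Modules ℤ) [DCoh.HasLTensorCx P]
    (Z : DCoh.D Y) : Prop :=
  DbCoh S ((DCoh.Rpush q).obj ((DCoh.LTensorCx P).obj Z))

section GoodDb

variable {q : Y ⟶ S} [DCoh.HasRpush q] {P : CochainComplex Y.Modules ℤ} [DCoh.HasLTensorCx P]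

theorem GoodDb.iso {K L : DCoh.D Y} (e : K ≅ L) (h : GoodDb q P K) : GoodDb q P L :=
  DbCoh.iso ((DCoh.Rpush q).mapIso ((DCoh.LTensorCx P).mapIso e)) h

theorem GoodDb.of_isZero {K : DCoh.D Y} (h : IsZero K) : GoodDb q P K :=
  DbCoh.of_isZero (Groth.Agent.DCohRestrLib.isZero_Rpush q ((KFlatLib.tensorTriFun P).zero h))

theorem GoodDb.triangle [IsLocallyNoetherian S] (T : Triangle (DCoh.D Y)) (hT : T ∈ distinguishedTriangles) :
    (GoodDb q P T.obj₁ → GoodDb q P T.obj₂ → GoodDb q P T.obj₃) ∧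
    (GoodDb q P T.obj₁ → GoodDb q P T.obj₃ → GoodDb q P T.obj₂) ∧
    (GoodDb q P T.obj₂ → GoodDb q P T.obj₃ → GoodDb q P T.obj₁) := by
  obtain ⟨_, _⟩ := QRlimLib.exists_isTriangulated_rpush q
  obtain ⟨T', hT', ⟨e₁⟩, ⟨e₂⟩, ⟨e₃⟩⟩ := (KFlatLib.tensorTriFun P).tri T hT
  let R := DCoh.Rpush q
  have hR := R.map_distinguished _ hT'
  exact ⟨fun h₁ h₂ => DbCoh.iso (R.mapIso e₃) (DbCoh.obj₃ _ hR
      (DbCoh.iso (R.mapIso e₁).symm h₁) (DbCoh.iso (R.mapIso e₂).symm h₂)),
    fun h₁ h₃ => DbCoh.iso (R.mapIso e₂) (DbCoh.obj₂ _ hR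
      (DbCoh.iso (R.mapIso e₁).symm h₁) (DbCoh.iso (R.mapIso e₃).symm h₃)),
    fun h₂ h₃ => DbCoh.iso (R.mapIso e₁) (DbCoh.obj₁ _ hR
      (DbCoh.iso (R.mapIso e₂).symm h₂) (DbCoh.iso (R.mapIso e₃).symm h₃))⟩

theorem GoodDb.shift_one [IsLocallyNoetherian S] {K : DCoh.D Y} : GoodDb q P (K⟦(1 : ℤ)⟧) ↔ GoodDb q P K := by
  have hT := rot_of_distTriang _ (contractible_distinguished K)
  exact ⟨fun h => (GoodDb.triangle _ hT).2.2 (GoodDb.of_isZero (isZero_zero _)) h,
    fun h => (GoodDb.triangle _ hT).1 h (GoodDb.of_isZero (isZero_zero _))⟩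

theorem GoodDb.single [IsLocallyNoetherian S] {M : Y.Modules} (h : GoodDb q P (DCoh.inD Y M)) :
    ∀ n : ℤ, GoodDb q P ((DerivedCategory.singleFunctor Y.Modules n).obj M) := by
  intro n
  induction n using Int.induction_on with
  | zero => exact h
  | succ k ih =>
    exact GoodDb.shift_one.1 (GoodDb.iso
      (((DerivedCategory.singleFunctors Y.Modules).shiftIso (1 : ℤ) (k : ℤ) ((k : ℤ) + 1) (by omega)).app M).symm ih)
  | pred k ih =>
    exact GoodDb.iso (((DerivedCategory.singleFunctors Y.Modules).shiftIso (1 : ℤ) (-(k : ℤ) - 1) (-(k : ℤ))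
      (by omega)).app M) (GoodDb.shift_one.2 ih)

end GoodDb

/-- The twisted direct image of a perfect object by a coherent module with proper support. -/
theorem dbCoh_rpush_lTensorMod [IsNoetherian S] [IsLocallyNoetherian Y] (q : Y ⟶ S)
    [LocallyOfFiniteType q] [DCoh.HasRpush q] (P : CochainComplex Y.Modules ℤ) (hP : DCoh.IsKFlat P)
    (hper : DCoh.IsPerfect (DCoh.toD Y P)) (G : Y.Modules) [DCoh.HasLTensorMod G] (hG : Coh.IsCoh G)
    (hsupp : ClSub.IsProperOver q (CohB1.support G)) :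
    DbCoh S ((DCoh.Rpush q).obj ((DCoh.LTensorMod G).obj (DCoh.toD Y P))) := by
  obtain ⟨Z, j, hj, hr, hp⟩ := ProperOverLib.exists_closedImmersion hsupp
  haveI : CompactSpace ↥Z := QuasiCompact.compactSpace_of_compactSpace (j ≫ q)
  have hc : IsCompact (CohB1.support G) := hr ▸ isCompact_range j.continuous
  obtain ⟨a, b, -, hab⟩ := PerfBaseLib.exists_amp_of_isCompact hP hper hc
  let T := (KFlatLib.tensorModCx G).obj P
  have hcoh := PerfBaseLib.isCohD_tensorMod G P hP hper hG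
  haveI : (DCoh.toD Y T).IsGE a := (DerivedCategory.isGE_iff _ a).2 fun i hi =>
    (KFlatLib.isZero_HD_iff (Iso.refl _) i).2 (PerfBaseLib.isZero_homology_tensorMod G P hab i (Or.inl hi))
  haveI : (DCoh.toD Y T).IsLE b := (DerivedCategory.isLE_iff _ b).2 fun i hi =>
    (KFlatLib.isZero_HD_iff (Iso.refl _) i).2 (PerfBaseLib.isZero_homology_tensorMod G P hab i (Or.inr hi))
  obtain ⟨h₁, h₂, b', h₃⟩ := Groth.Agent.S1001.result q (DCoh.toD Y T) a b hcoh fun i =>
    PerfBaseLib.isProperOver_of_subset q (QCohLib.isClosed_support _ (hcoh i).2)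
      ((DevissLib.support_iso (KFlatLib.hdToD T i)).le.trans
        (PerfBaseLib.support_homology_tensorMod G P i)) hsupp
  exact DbCoh.iso ((DCoh.Rpush q).mapIso (KFlatLib.lTensorModObjIso G P hP)).symm ⟨h₁, a, b', h₂, h₃⟩

/-- **Bounded coherence of twisted direct images of perfect objects.** -/
theorem dbCoh_rpush_lTensorCx [IsNoetherian S] [IsLocallyNoetherian Y] (q : Y ⟶ S)
    [LocallyOfFiniteType q] [DCoh.HasRpush q] (E : DCoh.D Y) (hE : DCoh.IsPerfect E)
    (K : CochainComplex Y.Modules ℤ) [DCoh.HasLTensorCx K] (hK : DCoh.IsCohD (DCoh.toD Y K)) (a b : ℤ)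
    (ha : (DCoh.toD Y K).IsGE a) (hb : (DCoh.toD Y K).IsLE b)
    (hsupp : ∀ i : ℤ, ClSub.IsProperOver q (CohB1.support (DCoh.HD (DCoh.toD Y K) i))) :
    DbCoh S ((DCoh.Rpush q).obj ((DCoh.LTensorCx K).obj E)) := by
  obtain ⟨P, hP, ⟨eP⟩⟩ := KFlatLib.exists_good_rep E
  have hPp := PerfLib.isPerfect_of_iso eP.symm hE
  haveI := KFlatLib.hasLTensorCx P
  haveI := TensorAssocLib.isIso_cnt P hP.1 K
  haveI := TensorAssocLib.isIso_cnt_of_kFlat K P hP.1
  let eS : (DCoh.LTensorCx P).obj (DerivedCategory.Q.obj K) ≅ DCoh.toD Y (KFlatLib.tCx P K) :=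
    asIso ((TensorAssocLib.cnt P).app K) ≪≫ DerivedCategory.Q.mapIso (KFlatLib.tCxFlip P K)
  refine DbCoh.iso ((DCoh.Rpush q).mapIso (eS ≪≫ (asIso ((TensorAssocLib.cnt K).app P)).symm ≪≫
    (DCoh.LTensorCx K).mapIso eP)) ?_
  haveI := ha
  haveI : (DCoh.toD Y K).IsLE (a + ((b - a).toNat : ℤ)) :=
    DerivedCategory.TStructure.t.isLE_of_le _ b _ (by omega)
  refine prop_of_bounded_homology (GoodDb q P) GoodDb.iso (fun T hT => (GoodDb.triangle T hT).2.1)
    (b - a).toNat a (DCoh.toD Y K) ha inferInstance fun n => GoodDb.single ?_ n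
  let G := DCoh.HD (DCoh.toD Y K) n
  haveI := KFlatLib.hasLTensorMod G
  obtain ⟨e⟩ := KiehlLib.nonempty_lTensorCx_inD P hP.1 G
  exact DbCoh.iso ((DCoh.Rpush q).mapIso e.symm) (dbCoh_rpush_lTensorMod q P hP.1 hPp G (hK n) (hsupp n))

end FMFlatLib
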